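import Groth.Agent.RedSub.K844.Critical
import Groth.Agent.S8504
import Groth.Agent.Par.K545.LeviCent
import Groth.Agent.RedSub.K195.CentTor

/-!
# Levi subgroups containing the torus of a pinning, over a connected base

* `eq_zero_iff_mem_span`: for a functional which is non-negative on a base, the roots on which it vanishes are the
  integer combinations of the simple roots on which it vanishes;
* `isTypeR_levi`: a Levi subgroup of a parabolic subgroup of `G` is a subgroup of type (R) of `G`;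
* `roots_levi`: the roots of a Levi subgroup containing the torus are the roots `a` with `a`, `-a` in the parabolic;
* `main`: the Levi subgroup is the centralizer of `D(M / N)` and `D(M / N)` is its radical.
-/

set_option autoImplicit false
universe u

open CategoryTheory MonoidalCategory CartesianMonoidalCategory MonObj GrpObj AlgebraicGeometry Limits

namespace K461.LeviRad

open Groth.Agent Groth.Agent.Sga3B K197.RadLat K197.RadSplit K844.TorusI K844.Critical

section Comb

variable {idx M : Type} [AddCommGroup M] {P : RootPairing idx ℤ M (Module.Dual ℤ M)}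

/-- A functional which is non-negative on a base vanishes on a root iff the root is an integer combination of the
simple roots on which the functional vanishes. -/
theorem eq_zero_iff_mem_span (b : P.Base) (x : Module.Dual ℤ M) (hx : ∀ c ∈ b.support, 0 ≤ x (P.root c)) (a : idx) :
    x (P.root a) = 0 ↔
      P.root a ∈ Submodule.span ℤ (P.root '' {c | c ∈ b.support ∧ x (P.root c) = 0}) := by
  classical
  constructor
  · intro h
    obtain ⟨f, hf0, hf1, hf2⟩ := b.exists_root_eq_sum_int a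
    have hsum : x (P.root a) = ∑ j ∈ b.support, f j * x (P.root j) := by
      rw [hf2, map_sum]
      exact Finset.sum_congr rfl fun j _ => by rw [map_zsmul, smul_eq_mul]
    have h4 : ∀ j ∈ b.support, f j * x (P.root j) = 0 := by
      rcases hf1 with hf | hf
      · have hterm : ∀ j ∈ b.support, 0 ≤ f j * x (P.root j) := fun j hj =>
          mul_nonneg (hf.le j) (hx j hj)
        rwa [hsum, Finset.sum_eq_zero_iff_of_nonneg hterm] at h
      · have hterm : ∀ j ∈ b.support, f j * x (P.root j) ≤ 0 := fun j hj =>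
          mul_nonpos_of_nonpos_of_nonneg (hf.le j) (hx j hj)
        rwa [hsum, Finset.sum_eq_zero_iff_of_nonpos hterm] at h
    rw [hf2]
    refine Submodule.sum_mem _ fun j hj => ?_
    rcases mul_eq_zero.1 (h4 j hj) with h5 | h5
    · rw [h5, zero_smul]; exact Submodule.zero_mem _
    · exact Submodule.smul_mem _ _ (Submodule.subset_span ⟨j, ⟨hj, h5⟩, rfl⟩)
  · intro h
    have key : ∀ m ∈ Submodule.span ℤ (P.root '' {c | c ∈ b.support ∧ x (P.root c) = 0}), x m = 0 := by
      intro m hm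
      induction hm using Submodule.span_induction with
      | mem m hm => obtain ⟨c, ⟨-, hc⟩, rfl⟩ := hm; exact hc
      | zero => exact map_zero _
      | add m m' _ _ h h' => rw [map_add, h, h', add_zero]
      | smul n m _ h => rw [map_zsmul, h, smul_zero]
    exact key _ h

end Comb

variable {S : Scheme.{u}} {G P L : Over S} [GrpObj G] [GrpObj P] [GrpObj L]

/-- A Levi subgroup of a parabolic subgroup of a reductive group `G` is a subgroup of type (R) of `G`. -/
theorem isTypeR_levi (hG : Red.IsReductive G) {p : P ⟶ G} (hP : Red.IsParabolic p) {l : L ⟶ P}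
    (hl : Par.IsLevi l) : _root_.RedSub.IsTypeR (l ≫ p) := by
  obtain ⟨Z, R, _, _, j, r, hZ, -, hr⟩ := K545.Centre.exists_radical hl.2.2.1
  have hcrit := K545.LeviCent.isCentralizerOf_radical hG hP hl hZ hr
  have h1 := hP.1
  have h2 := hl.1
  have h3 := hl.2.1
  have h4 := hZ.1
  have h5 := hZ.2.1
  have h6 := hr.1
  have h7 := hr.2.1
  have h8 := K545.Tools.mono_of_isParabolic hP
  exact K195.CentTor.isTypeR_centralizer hG (r ≫ j ≫ l ≫ p) hr.2.2.1 (l ≫ p) hcrit

/-- **The roots of a Levi subgroup containing the torus.** -/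
theorem roots_levi [ConnectedSpace S] (D : Red.SplitRed G) {p : P ⟶ G} (hP : Red.IsParabolic p) {l : L ⟶ P}
    (hl : Par.IsLevi l) (t : D.T ⟶ L) (ht : t ≫ l ≫ p = D.i) (x : Module.Dual ℤ D.M)
    (hx : ∀ a : D.idx, (∃ v : Red.Ga S ⟶ P, v ≫ p = D.u a) ↔ 0 ≤ x (D.P.root a)) (a : D.idx) :
    (∃ v : Red.Ga S ⟶ L, v ≫ l ≫ p = D.u a) ↔ x (D.P.root a) = 0 := by
  have hG := D.reductive
  have hsymm := (Groth.Agent.S5529.result D (l ≫ p) (isTypeR_levi hG hP hl) t ht
    {a | ∃ v : Red.Ga S ⟶ L, v ≫ l ≫ p = D.u a} (fun _ => Iff.rfl)).1.1 hl.2.2.1.2.2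
  obtain ⟨Q, _, q, m, hq, hm, hpb, -⟩ := K545.Tools.exists_opp hG hP hl
  obtain ⟨y, hy⟩ := Groth.Agent.S8504.key D q hq (t ≫ m) (by
    rw [Category.assoc, ← hpb.w, ht])
  have hneg : ∀ (z : Module.Dual ℤ D.M) (a : D.idx),
      z (D.P.root (D.P.reflectionPerm a a)) = - z (D.P.root a) := fun z a => by
    rw [D.P.root_reflectionPerm, D.P.reflection_apply_self, map_neg]
  -- `L = P ∩ Q`
  have hL : ∀ a : D.idx, (∃ v : Red.Ga S ⟶ L, v ≫ l ≫ p = D.u a) ↔
      0 ≤ x (D.P.root a) ∧ 0 ≤ y (D.P.root a) := by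
    intro a
    rw [← hx, ← hy]
    constructor
    · rintro ⟨v, hv⟩
      refine ⟨⟨v ≫ l, by rw [Category.assoc, hv]⟩, ⟨v ≫ m, ?_⟩⟩
      rw [Category.assoc, ← hpb.w, hv]
    · rintro ⟨⟨v, hv⟩, ⟨w, hw⟩⟩
      exact ⟨hpb.lift v w (hv.trans hw.symm), by
        rw [← Category.assoc, hpb.lift_fst, hv]⟩
  have hs : ∀ a : D.idx, 0 ≤ x (D.P.root a) → 0 ≤ y (D.P.root a) →
      0 ≤ -x (D.P.root a) ∧ 0 ≤ -y (D.P.root a) := by
    intro a h1 h2
    have h3 := (hL _).1 (hsymm a ((hL a).2 ⟨h1, h2⟩))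
    rwa [hneg, hneg] at h3
  rw [hL]
  constructor
  · rintro ⟨h1, h2⟩
    have := hs a h1 h2
    omega
  · intro h
    refine ⟨h.ge, ?_⟩
    by_contra h1
    push Not at h1
    -- the opposite root
    have h2 := hs (D.P.reflectionPerm a a) (by rw [hneg, h, neg_zero]) (by rw [hneg]; omega)
    rw [hneg, hneg] at h2
    omega


/-- The kernel of `φ` is `N`: then `D(M / N)` is the subtorus defined by `φ`. -/
lemma exists_iso_DS (S : Scheme.{u}) {M M' : Type} [AddCommGroup M] [AddCommGroup M'] (φ : M →+ M')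
    (hφ : Function.Surjective φ) (N : Submodule ℤ M) (hN : ∀ m, m ∈ N ↔ φ m = 0) :
    ∃ w : Red.DS S (M ⧸ N) ⟶ Red.DS S M', IsIso w ∧ IsMonHom w ∧
      w ≫ Red.DSmap S φ = Red.DSmap S N.mkQ.toAddMonoidHom := by
  let ψ : M ⧸ N →+ M' := (N.liftQ φ.toIntLinearMap (fun m hm => (hN m).1 hm)).toAddMonoidHom
  have hψ : ∀ m, ψ (N.mkQ m) = φ m := fun m => rfl
  have hψb : Function.Bijective ψ := by
    constructor
    · rw [injective_iff_map_eq_zero]
      intro y hy
      obtain ⟨m, rfl⟩ := N.mkQ_surjective y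
      rw [hψ] at hy
      exact (Submodule.Quotient.mk_eq_zero N).2 ((hN m).2 hy)
    · intro y
      obtain ⟨m, rfl⟩ := hφ y
      exact ⟨N.mkQ m, hψ m⟩
  let e : M ⧸ N ≃+ M' := AddEquiv.ofBijective ψ hψb
  refine ⟨Red.DSmap S e.symm.toAddMonoidHom, ⟨Red.DSmap S e.toAddMonoidHom, ?_, ?_⟩,
    Groth.Agent.Sga3B.BorSpan613.isMonHom_DSmap S _, ?_⟩
  · rw [PinTransport.DSmap_comp]
    have h : e.symm.toAddMonoidHom.comp e.toAddMonoidHom = AddMonoidHom.id _ := by
      ext m
      exact e.symm_apply_apply _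
    rw [h]
    exact PinTransport.DSmap_id
  · rw [PinTransport.DSmap_comp]
    have h : e.toAddMonoidHom.comp e.symm.toAddMonoidHom = AddMonoidHom.id _ := by
      ext m
      exact e.apply_symm_apply _
    rw [h]
    exact PinTransport.DSmap_id
  · rw [PinTransport.DSmap_comp]
    congr 1
    ext m
    change e.symm (φ m) = N.mkQ m
    rw [AddEquiv.symm_apply_eq]
    exact (hψ m).symm


section Pin

variable (D : Red.Pinning G) (p : P ⟶ G) (hP : Red.IsParabolic p)
    (hpos : ∀ a : D.idx, D.P.root a ∈ AddSubmonoid.closure (D.P.root '' (D.base.support : Set D.idx)) →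
      ∃ v : Red.Ga S ⟶ P, v ≫ p = D.u a)
    (ΔP : Set D.idx)
    (hΔP : ∀ a : D.idx, a ∈ ΔP ↔ (a ∈ D.base.support ∧
      ∃ b : D.idx, D.P.root b = - D.P.root a ∧ ∃ v : Red.Ga S ⟶ P, v ≫ p = D.u b))
    (N : Submodule ℤ D.M)
    (hN : ∀ m : D.M, m ∈ N ↔ ∃ k : ℤ, k ≠ 0 ∧ k • m ∈ Submodule.span ℤ (D.P.root '' ΔP))
    (l : L ⟶ P) (hl : Par.IsLevi l) (t : D.T ⟶ L) (ht : t ≫ l ≫ p = D.i)

include hP hpos hΔP hl ht

/-- The roots of the Levi subgroup containing the torus are the integer combinations of `Δ(P)`. -/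
theorem roots_pin [ConnectedSpace S] (a : D.idx) :
    (∃ v : Red.Ga S ⟶ L, v ≫ l ≫ p = D.u a) ↔ D.P.root a ∈ Submodule.span ℤ (D.P.root '' ΔP) := by
  obtain ⟨x, hx⟩ := Groth.Agent.S8504.key D.toSplitRed p hP (t ≫ l) (by rw [Category.assoc, ht])
  have hsimple : ∀ c ∈ D.base.support, 0 ≤ x (D.P.root c) := fun c hc =>
    (hx c).1 (hpos c (AddSubmonoid.subset_closure ⟨c, hc, rfl⟩))
  have hΔ : ΔP = {c | c ∈ D.base.support ∧ x (D.P.root c) = 0} := by
    ext c
    rw [hΔP]
    constructor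
    · rintro ⟨hc, b, hb, hv⟩
      have h1 := (hx b).1 hv
      rw [hb, map_neg] at h1
      have h2 := hsimple c hc
      exact ⟨hc, by omega⟩
    · rintro ⟨hc, h0⟩
      refine ⟨hc, D.P.reflectionPerm c c, ?_, (hx _).2 ?_⟩
      · rw [D.P.root_reflectionPerm, D.P.reflection_apply_self]
      · rw [D.P.root_reflectionPerm, D.P.reflection_apply_self, map_neg, h0, neg_zero]
  rw [hΔ, ← eq_zero_iff_mem_span D.base x hsimple a]
  exact roots_levi D.toSplitRed hP hl t ht x hx a

include hN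

/-- **A Levi subgroup containing the torus of a pinning adapted to the parabolic subgroup** (connected base): it is the
centralizer of the subtorus `T_Δ(P)`, which is its radical. -/
theorem main [ConnectedSpace S] :
    Red.IsCentralizerOf (Red.DSmap S N.mkQ.toAddMonoidHom ≫ D.split.inv.hom.hom ≫ D.i) (l ≫ p) ∧
    ∀ (ZL : Over S) [GrpObj ZL] (jz : ZL ⟶ L), Red.IsCentre jz →
      ∃ r : Red.DS S (D.M ⧸ N) ⟶ ZL, r ≫ jz ≫ l ≫ p = Red.DSmap S N.mkQ.toAddMonoidHom ≫ D.split.inv.hom.hom ≫ D.i ∧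
        Red.IsMaximalTorus r := by
  have hG := D.reductive
  have hred := SplitReduced415.isReduced D.toSplitRed
  have hpm := hP.1
  have hlm := hl.1
  have hlmono := hl.2.1
  have hpmono := K545.Tools.mono_of_isParabolic hP
  let R' : Set D.idx := {a | ∃ v : Red.Ga S ⟶ L, v ≫ l ≫ p = D.u a}
  have hR' : ∀ a : D.idx, a ∈ R' ↔ D.P.root a ∈ Submodule.span ℤ (D.P.root '' ΔP) :=
    roots_pin D p hP hpos ΔP hΔP l hl t ht
  have hspan : Submodule.span ℤ (D.P.root '' R') = Submodule.span ℤ (D.P.root '' ΔP) := by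
    apply le_antisymm
    · rw [Submodule.span_le]
      rintro _ ⟨a, ha, rfl⟩
      exact (hR' a).1 ha
    · apply Submodule.span_mono
      rintro _ ⟨a, ha, rfl⟩
      exact ⟨a, (hR' a).2 (Submodule.subset_span ⟨a, ha, rfl⟩), rfl⟩
  have hH := isTypeR_levi hG hP hl
  have hsymm := (Groth.Agent.S5529.result D.toSplitRed (l ≫ p) hH t ht R' (fun _ => Iff.rfl)).1.1
    hl.2.2.1.2.2
  obtain ⟨D', e, eidx, em, h1, h2, h3, -⟩ :=
    Groth.Agent.S5545.result D.toSplitRed (l ≫ p) hH t ht R' (fun _ => Iff.rfl) hsymm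
  obtain ⟨w, hwi, hwm, hw⟩ := exists_iso_DS S (phi D.toSplitRed D' em) (phi_surjective D.toSplitRed D' em) N
    (fun m => by rw [phi_eq_zero_iff D.toSplitRed D' eidx em h3, hspan]; exact hN m)
  have hwq : w ≫ qT D.toSplitRed (phi D.toSplitRed D' em) =
      Red.DSmap S N.mkQ.toAddMonoidHom ≫ D.split.inv.hom.hom ≫ D.i := by
    rw [qT, ← Category.assoc, hw]
  have hrad := radI_comp D.toSplitRed (l ≫ p) t ht D' e em h1 h2
  have hb : ∀ (ZL : Over S) [GrpObj ZL] (jz : ZL ⟶ L), Red.IsCentre jz →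
      ∃ r : Red.DS S (D.M ⧸ N) ⟶ ZL, r ≫ jz ≫ l ≫ p = Red.DSmap S N.mkQ.toAddMonoidHom ≫ D.split.inv.hom.hom ≫ D.i ∧
        Red.IsMaximalTorus r := by
    intro ZL _ jz hZ
    obtain ⟨R, _, r, hr, -⟩ := Groth.Agent.S4148.result S ZL (K545.Centre.isMultTypeFT_centre hl.2.2.1 jz hZ)
    obtain ⟨w', hw'i, hw'm, hw'⟩ := rad_iso D' jz hZ r hr
    have := hr.1
    refine ⟨w ≫ CategoryTheory.inv w' ≫ r, ?_, ?_⟩
    · rw [← hwq, ← hrad, Category.assoc, Category.assoc, ← Category.assoc r jz, ← hw', Category.assoc,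
        IsIso.inv_hom_id_assoc]
    · have hm0 : IsMonHom (asIso w').hom := hw'm
      have hm1 : IsMonHom (CategoryTheory.inv w') := inferInstanceAs (IsMonHom (asIso w').inv)
      have hm2 : IsMonHom (w ≫ CategoryTheory.inv w') := inferInstance
      refine AlgBc.isMaximalTorus_of_arrow (Grp.mkIso' (asIso (w ≫ CategoryTheory.inv w'))).symm (Iso.refl _) ?_ hr
      change r ≫ 𝟙 ZL = CategoryTheory.inv (w ≫ CategoryTheory.inv w') ≫ w ≫ CategoryTheory.inv w' ≫ r
      rw [Category.comp_id, ← Category.assoc w, IsIso.inv_hom_id_assoc]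
  refine ⟨?_, hb⟩
  obtain ⟨Z, R, _, _, j, r, hZ, -, hr⟩ := K545.Centre.exists_radical hl.2.2.1
  obtain ⟨r', hr', hr'm⟩ := hb Z j hZ
  rw [← hr']
  exact K545.LeviCent.isCentralizerOf_radical hG hP hl hZ hr'm

end Pin

end K461.LeviRad
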