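import Groth.Agent.Par.K461.LeviRad
import Groth.Agent.RedSub.K199.RtsM
import Groth.Agent.RedSub.K195.Le
import Groth.Agent.Par.K545.BC
import Groth.Agent.RedSub.H648.BorBc

/-!
# Levi subgroups containing the torus of a pinning, parabolic subgroup of constant type

The base `S` is arbitrary; instead of connectedness it is assumed that for every simple root `a` the root group
`U_{-a}` is contained in `P` as soon as it is contained in `P` on one geometric fibre.
-/

set_option autoImplicit false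
universe u

open CategoryTheory MonoidalCategory CartesianMonoidalCategory MonObj GrpObj AlgebraicGeometry Limits

namespace K461.LeviRad

open Groth.Agent Groth.Agent.Sga3B Groth.Agent.Sga3B.RedIso Groth.Agent.Sga3B.SplitBc264 K197.RadLat K197.RadSplit
  K844.TorusI K844.Critical Groth.Agent.RedSub.H635.Uniq

variable {S : Scheme.{u}} {G P L H : Over S} [GrpObj G] [GrpObj P] [GrpObj L] [GrpObj H]

omit [GrpObj H] in
/-- A factorization of the root homomorphism of a base change. -/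
lemma exists_bc_iff (D : Red.SplitRed G) {S' : Scheme.{u}} (f : S' ⟶ S) (h : H ⟶ G) (a : D.idx) :
    (∃ v : Red.Ga S' ⟶ Red.bc f H, v ≫ (Over.pullback f).map h = (splitBc f D).u a) ↔
      ∃ v : Red.bc f (Red.Ga S) ⟶ Red.bc f H, v ≫ (Over.pullback f).map h = (Over.pullback f).map (D.u a) := by
  have h1 : (gaBcIso f).hom.hom.hom ≫ (gaBcIso f).inv.hom.hom = 𝟙 _ :=
    congrArg (fun z => z.hom.hom) (gaBcIso f).hom_inv_id
  rw [splitBc_u]
  constructor
  · rintro ⟨v, hv⟩
    refine ⟨(gaBcIso f).hom.hom.hom ≫ v, ?_⟩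
    rw [Category.assoc, hv, ← Category.assoc, h1, Category.id_comp]
  · rintro ⟨v, hv⟩
    exact ⟨(gaBcIso f).inv.hom.hom ≫ v, by rw [Category.assoc, hv]⟩

/-- The locus where a root group is contained in a subgroup, on geometric fibres. -/
lemma mem_E_iff_geom (D : Red.SplitRed G) (h : H ⟶ G) [IsMonHom h] [IsImmersion h.left] [Smooth H.hom]
    (t : D.T ⟶ H) (ht : t ≫ h = D.i) (s : S) (a : D.idx) :
    s ∈ E D h a ↔ ∃ v : Red.geomFibre s (Red.Ga S) ⟶ Red.geomFibre s H,
      v ≫ (Over.pullback (Red.geomPt s)).map h = (Over.pullback (Red.geomPt s)).map (D.u a) := by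
  let f := Red.geomPt s
  let σ : Spec (CommRingCat.of (AlgebraicClosure (S.residueField s))) := (⊥ : PrimeSpectrum _)
  have hσ : f σ = s := Groth.Agent.S8504.geomPt_apply s _
  have hc : ConnectedSpace (Spec (CommRingCat.of (AlgebraicClosure (S.residueField s)))) :=
    inferInstanceAs (ConnectedSpace (PrimeSpectrum (AlgebraicClosure (S.residueField s))))
  have hs : Smooth (Red.bc f H).hom := inferInstanceAs (Smooth (Limits.pullback.snd H.hom f))
  have h1 : IsImmersion ((Over.pullback f).map h).left :=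
    (RedSub.H648.BorBc.isSubgrp_bc f ⟨inferInstance, inferInstance⟩).2
  have h2 : (Over.pullback f).map t ≫ (Over.pullback f).map h = (Over.pullback f).map D.i := by
    rw [← Functor.map_comp, ht]
  rw [← exists_bc_iff, RedSub.H635.Uniq.exists_lift_iff (splitBc f D) ((Over.pullback f).map h)
    ((Over.pullback f).map t) h2 a σ, K195.Tang.mem_E_bc_iff, hσ]

/-- The subtorus of a base change of a split group defined by a quotient of the character group. -/
noncomputable def qB (D : Red.SplitRed G) {S' : Scheme.{u}} (f : S' ⟶ S) {M' : Type} [AddCommGroup M']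
    (φ : D.M →+ M') : Red.DS S' M' ⟶ Red.bc f G :=
  Red.DSmap S' φ ≫ ((TorusAlgClosed.dsBcIso f D.M).inv.hom.hom ≫ (Over.pullback f).map D.split.inv.hom.hom) ≫
    (Over.pullback f).map D.i

/-- The subtorus defined by a quotient of the character group is compatible with base change. -/
lemma qT_bc (D : Red.SplitRed G) {S' : Scheme.{u}} (f : S' ⟶ S) {M' : Type} [AddCommGroup M'] (φ : D.M →+ M') :
    (Over.pullback f).map (qT D φ) = (TorusAlgClosed.dsBcIso f M').hom.hom.hom ≫ qB D f φ := by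
  have h1 := BorLoc613.dsBcIso_naturality f φ
  have h3 : (TorusAlgClosed.dsBcIso f D.M).hom.hom.hom ≫ (TorusAlgClosed.dsBcIso f D.M).inv.hom.hom = 𝟙 _ :=
    congrArg (fun z => z.hom.hom) (TorusAlgClosed.dsBcIso f D.M).hom_inv_id
  have h4 : (Over.pullback f).map (qT D φ) = (Over.pullback f).map (Red.DSmap S φ) ≫
      (Over.pullback f).map D.split.inv.hom.hom ≫ (Over.pullback f).map D.i := by
    rw [← Functor.map_comp, ← Functor.map_comp]
  rw [qB, ← Category.assoc (TorusAlgClosed.dsBcIso f M').hom.hom.hom, ← h1, h4]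
  simp only [Category.assoc]
  rw [reassoc_of% h3]

/-- The quotient by a saturated submodule is free. -/
lemma free_quot {M : Type} [AddCommGroup M] [Module.Finite ℤ M] (A N : Submodule ℤ M)
    (hN : ∀ m : M, m ∈ N ↔ ∃ k : ℤ, k ≠ 0 ∧ k • m ∈ A) : Module.Free ℤ (M ⧸ N) := by
  have : Module.IsTorsionFree ℤ (M ⧸ N) := by
    refine Module.IsTorsionFree.of_smul_eq_zero fun k x h => ?_
    obtain ⟨m, rfl⟩ := N.mkQ_surjective x
    by_cases hk : k = 0
    · exact Or.inl hk
    · right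
      rw [← map_zsmul] at h
      obtain ⟨l, hl, hm⟩ := (hN _).1 ((Submodule.Quotient.mk_eq_zero N).1 h)
      exact (Submodule.Quotient.mk_eq_zero N).2 ((hN _).2 ⟨l * k, mul_ne_zero hl hk, by rwa [mul_smul]⟩)
  infer_instance

section Pin

variable (D : Red.Pinning G) (p : P ⟶ G) (hP : Red.IsParabolic p)
    (hpos : ∀ a : D.idx, D.P.root a ∈ AddSubmonoid.closure (D.P.root '' (D.base.support : Set D.idx)) →
      ∃ v : Red.Ga S ⟶ P, v ≫ p = D.u a)
    (hconst : ∀ a ∈ D.base.support, ∀ b : D.idx, D.P.root b = - D.P.root a → ∀ s : S,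
      (∃ v : Red.geomFibre s (Red.Ga S) ⟶ Red.geomFibre s P,
        v ≫ (Over.pullback (Red.geomPt s)).map p = (Over.pullback (Red.geomPt s)).map (D.u b)) →
      ∃ v : Red.Ga S ⟶ P, v ≫ p = D.u b)
    (ΔP : Set D.idx)
    (hΔP : ∀ a : D.idx, a ∈ ΔP ↔ (a ∈ D.base.support ∧
      ∃ b : D.idx, D.P.root b = - D.P.root a ∧ ∃ v : Red.Ga S ⟶ P, v ≫ p = D.u b))
    (N : Submodule ℤ D.M)
    (hN : ∀ m : D.M, m ∈ N ↔ ∃ k : ℤ, k ≠ 0 ∧ k • m ∈ Submodule.span ℤ (D.P.root '' ΔP))
    (l : L ⟶ P) (hl : Par.IsLevi l) (t : D.T ⟶ L) (ht : t ≫ l ≫ p = D.i)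

include hpos in
omit [GrpObj P] in
lemma hpos_fib (s : S) (a : (pinBc (Red.geomPt s) D).idx)
    (ha : (pinBc (Red.geomPt s) D).P.root a ∈ AddSubmonoid.closure ((pinBc (Red.geomPt s) D).P.root ''
      ((pinBc (Red.geomPt s) D).base.support : Set (pinBc (Red.geomPt s) D).idx))) :
    ∃ v : Red.Ga _ ⟶ Red.bc (Red.geomPt s) P,
      v ≫ (Over.pullback (Red.geomPt s)).map p = (pinBc (Red.geomPt s) D).u a := by
  obtain ⟨v, hv⟩ := hpos a ha
  refine (exists_bc_iff D.toSplitRed (Red.geomPt s) p a).2 ⟨(Over.pullback (Red.geomPt s)).map v, ?_⟩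
  rw [← Functor.map_comp, hv]

include hconst hΔP in
omit [GrpObj P] in
lemma hΔP_fib (s : S) (a : (pinBc (Red.geomPt s) D).idx) :
    a ∈ ΔP ↔ (a ∈ (pinBc (Red.geomPt s) D).base.support ∧
      ∃ b : (pinBc (Red.geomPt s) D).idx,
        (pinBc (Red.geomPt s) D).P.root b = - (pinBc (Red.geomPt s) D).P.root a ∧
        ∃ v : Red.Ga _ ⟶ Red.bc (Red.geomPt s) P,
          v ≫ (Over.pullback (Red.geomPt s)).map p = (pinBc (Red.geomPt s) D).u b) := by
  refine (hΔP a).trans (and_congr_right fun ha => exists_congr fun b => and_congr_right fun hb => ?_)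
  refine Iff.trans ?_ (exists_bc_iff D.toSplitRed (Red.geomPt s) p b).symm
  constructor
  · rintro ⟨v, hv⟩
    exact ⟨(Over.pullback (Red.geomPt s)).map v, by rw [← Functor.map_comp, hv]⟩
  · exact hconst a ha b hb s

include hP hpos hconst hΔP hl ht

/-- The roots of the Levi subgroup on every fibre are the integer combinations of `Δ(P)`. -/
theorem rts_pin (s : S) (a : D.idx) :
    s ∈ E D.toSplitRed (l ≫ p) a ↔ D.P.root a ∈ Submodule.span ℤ (D.P.root '' ΔP) := by
  have hG := D.reductive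
  have hH := isTypeR_levi hG hP hl
  have m1 := hH.1.1
  have i1 := hH.1.2
  have s1 := hH.2.1
  have hc : ConnectedSpace (Spec (CommRingCat.of (AlgebraicClosure (S.residueField s)))) :=
    inferInstanceAs (ConnectedSpace (PrimeSpectrum (AlgebraicClosure (S.residueField s))))
  rw [mem_E_iff_geom D.toSplitRed (l ≫ p) t ht s a, ← exists_bc_iff]
  have ht' : (Over.pullback (Red.geomPt s)).map t ≫ (Over.pullback (Red.geomPt s)).map l ≫
      (Over.pullback (Red.geomPt s)).map p = (Over.pullback (Red.geomPt s)).map D.i := by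
    rw [← Functor.map_comp, ← Functor.map_comp, ht]
  have h1 := roots_pin (pinBc (Red.geomPt s) D) ((Over.pullback (Red.geomPt s)).map p)
    (RedSub.H648.BorBc.isParabolic_bc (Red.geomPt s) hG hP) (hpos_fib D p hpos s) ΔP
    (hΔP_fib D p hconst ΔP hΔP s) ((Over.pullback (Red.geomPt s)).map l)
    (K545.BC.isLevi_bc hG hP hl (Red.geomPt s)) ((Over.pullback (Red.geomPt s)).map t)
    ht' a
  rw [← Functor.map_comp] at h1
  exact h1

include hN

/-- **A Levi subgroup containing the torus of a pinning adapted to a parabolic subgroup of constant type**: it is the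
centralizer of the subtorus `T_Δ(P)`, which is its radical. -/
theorem main_ct :
    Red.IsCentralizerOf (Red.DSmap S N.mkQ.toAddMonoidHom ≫ D.split.inv.hom.hom ≫ D.i) (l ≫ p) ∧
    ∀ (ZL : Over S) [GrpObj ZL] (jz : ZL ⟶ L), Red.IsCentre jz →
      ∃ r : Red.DS S (D.M ⧸ N) ⟶ ZL, r ≫ jz ≫ l ≫ p = Red.DSmap S N.mkQ.toAddMonoidHom ≫ D.split.inv.hom.hom ≫ D.i ∧
        Red.IsMaximalTorus r := by
  have hG := D.reductive
  have hpm := hP.1
  have hlm := hl.1
  have hlmono := hl.2.1
  have hpmono := K545.Tools.mono_of_isParabolic hP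
  have hH := isTypeR_levi hG hP hl
  have m1 := hH.1.1
  have i1 := hH.1.2
  have s1 := hH.2.1
  have hfree : Module.Free ℤ (D.M ⧸ N) := free_quot _ N hN
  have hQ : Red.IsTorus (Red.DS S (D.M ⧸ N)) := K197.RadSplit.isTorus_DS S _
  have hqm := isMonHom_qT D.toSplitRed N.mkQ.toAddMonoidHom
  have hqmono := mono_qT D.toSplitRed N.mkQ.toAddMonoidHom N.mkQ_surjective
  -- the centralizer of the subtorus contains the Levi subgroup
  obtain ⟨Z, _, z, hz, hzR, -⟩ := Groth.Agent.S5550.result hG (qT D.toSplitRed N.mkQ.toAddMonoidHom) hQ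
  obtain ⟨tZ, htZ⟩ := exists_t D.toSplitRed N.mkQ.toAddMonoidHom hz
  have z1 := hzR.1.1
  have z2 := hzR.1.2
  have z3 := hzR.2.1
  obtain ⟨v, hv⟩ := K195.Le.exists_le_of_E D.toSplitRed (l ≫ p) z hH.2.2.2.1 t ht tZ htZ fun a s hs => by
    have h1 := (rts_pin D p hP hpos hconst ΔP hΔP l hl t ht s a).1 hs
    have h2 : N.mkQ.toAddMonoidHom (D.P.root a) = 0 :=
      (Submodule.Quotient.mk_eq_zero N).2 ((hN _).2 ⟨1, one_ne_zero, by rwa [one_smul]⟩)
    exact mem_E_of_lift D.toSplitRed z a (exists_u_of_eq_zero D.toSplitRed N.mkQ.toAddMonoidHom hz a h2) s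
  have hb : ∀ (ZL : Over S) [GrpObj ZL] (jz : ZL ⟶ L), Red.IsCentre jz →
      ∃ r : Red.DS S (D.M ⧸ N) ⟶ ZL, r ≫ jz ≫ l ≫ p = Red.DSmap S N.mkQ.toAddMonoidHom ≫ D.split.inv.hom.hom ≫ D.i ∧
        Red.IsMaximalTorus r := by
    intro ZL _ jz hZ
    have hjm := hZ.1
    have hjmono := hZ.2.1
    let r₀ : Red.DS S (D.M ⧸ N) ⟶ L := Red.DSmap S N.mkQ.toAddMonoidHom ≫ D.split.inv.hom.hom ≫ t
    have hr₀ : r₀ ≫ l ≫ p = qT D.toSplitRed N.mkQ.toAddMonoidHom := by
      simp only [r₀, Category.assoc, ht, qT]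
    obtain ⟨r, hr⟩ := (hZ.2.2 _ r₀).2 fun X' x h => by
      rw [Category.comp_id, ← cancel_mono (l ≫ p), MonObj.mul_comp, MonObj.mul_comp, Category.assoc, hr₀]
      have h1 := (hz.2.2 X' (h ≫ l ≫ p)).1 ⟨h ≫ v, by rw [Category.assoc, hv]⟩ X' (𝟙 _) x
      rw [Category.id_comp] at h1
      exact h1.symm
    have hrc : r ≫ jz ≫ l ≫ p = qT D.toSplitRed N.mkQ.toAddMonoidHom := by
      rw [← Category.assoc, hr, hr₀]
    have hrm : IsMonHom r := by
      have h1 : IsMonHom (r ≫ jz ≫ l ≫ p) := by rw [hrc]; exact hqm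
      exact K197.RadSplit.isMonHom_of_comp r (jz ≫ l ≫ p) h1
    have hrmono : Mono r := by
      have h1 : Mono (r ≫ jz ≫ l ≫ p) := by rw [hrc]; exact hqmono
      exact mono_of_mono r (jz ≫ l ≫ p)
    refine ⟨r, hrc, hrm, hrmono, hQ, fun s => ?_⟩
    have hc : ConnectedSpace (Spec (CommRingCat.of (AlgebraicClosure (S.residueField s)))) :=
      inferInstanceAs (ConnectedSpace (PrimeSpectrum (AlgebraicClosure (S.residueField s))))
    have ht' : (Over.pullback (Red.geomPt s)).map t ≫ (Over.pullback (Red.geomPt s)).map l ≫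
        (Over.pullback (Red.geomPt s)).map p = (Over.pullback (Red.geomPt s)).map D.i := by
      rw [← Functor.map_comp, ← Functor.map_comp, ht]
    obtain ⟨r', hr'c, hr'⟩ : ∃ r' : Red.DS (Spec (CommRingCat.of (AlgebraicClosure (S.residueField s)))) (D.M ⧸ N) ⟶
        Red.bc (Red.geomPt s) ZL, r' ≫ (Over.pullback (Red.geomPt s)).map jz ≫ (Over.pullback (Red.geomPt s)).map l ≫
          (Over.pullback (Red.geomPt s)).map p = qB D.toSplitRed (Red.geomPt s) N.mkQ.toAddMonoidHom ∧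
        Red.IsMaximalTorus r' :=
      (main (pinBc (Red.geomPt s) D) ((Over.pullback (Red.geomPt s)).map p)
        (RedSub.H648.BorBc.isParabolic_bc (Red.geomPt s) hG hP) (hpos_fib D p hpos s) ΔP
        (hΔP_fib D p hconst ΔP hΔP s) N hN ((Over.pullback (Red.geomPt s)).map l)
        (K545.BC.isLevi_bc hG hP hl (Red.geomPt s)) ((Over.pullback (Red.geomPt s)).map t)
        ht').2 (Red.bc (Red.geomPt s) ZL) ((Over.pullback (Red.geomPt s)).map jz)
        (K197.LocP.isCentre_bc (Red.geomPt s) hZ)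
    have hcomp : (Over.pullback (Red.geomPt s)).map r =
        (TorusAlgClosed.dsBcIso (Red.geomPt s) (D.M ⧸ N)).hom.hom.hom ≫ r' := by
      have e1 : Mono ((Over.pullback (Red.geomPt s)).map (jz ≫ l ≫ p)) := inferInstance
      rw [← cancel_mono ((Over.pullback (Red.geomPt s)).map (jz ≫ l ≫ p)), ← Functor.map_comp, hrc,
        qT_bc, Functor.map_comp, Functor.map_comp, Category.assoc, hr'c]
    have h1 := (AlgBc.isMaximalTorus_iff.1 hr').2.2.2
    refine AlgBc.isMaxTorOver_of_arrow (TorusAlgClosed.dsBcIso (Red.geomPt s) (D.M ⧸ N)).symm (Iso.refl _) ?_ h1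
    have e2 : (TorusAlgClosed.dsBcIso (Red.geomPt s) (D.M ⧸ N)).inv.hom.hom ≫
        (TorusAlgClosed.dsBcIso (Red.geomPt s) (D.M ⧸ N)).hom.hom.hom = 𝟙 _ :=
      congrArg (fun z => z.hom.hom) (TorusAlgClosed.dsBcIso (Red.geomPt s) (D.M ⧸ N)).inv_hom_id
    change r' ≫ 𝟙 _ = (TorusAlgClosed.dsBcIso (Red.geomPt s) (D.M ⧸ N)).inv.hom.hom ≫
      (Over.pullback (Red.geomPt s)).map r
    rw [Category.comp_id, hcomp, ← Category.assoc, e2, Category.id_comp]
  refine ⟨?_, hb⟩
  obtain ⟨Z, R, _, _, j, r, hZ, -, hr⟩ := K545.Centre.exists_radical hl.2.2.1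
  obtain ⟨r', hr', hr'm⟩ := hb Z j hZ
  rw [← hr']
  exact K545.LeviCent.isCentralizerOf_radical hG hP hl hZ hr'm

end Pin

end K461.LeviRad
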